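import Cfsg.Agent.CosetEnum.Fi22.T8Data

/-! Words (generated data, owner: helper28). -/

set_option autoImplicit false
set_option maxRecDepth 1000000

namespace Cfsg.Agent.CosetEnum.Fi22T8

def zs : List (List Nat) := [[2, 1, 6, 3, 5, 2, 4, 3, 2, 1, 2, 3, 4, 2, 5, 3, 6, 1, 2, 4, 7, 4], [3, 6, 1, 2, 4, 7, 4, 2, 1, 6, 3, 5, 2, 4, 3, 2, 1, 2, 3, 4, 2, 5], [4, 2, 1, 6, 3, 5, 2, 4, 3, 2, 1, 2, 3, 4, 2, 5, 3, 6, 1, 2, 4, 7], [2, 4, 7, 4, 2, 1, 6, 3, 5, 2, 4, 3, 2, 1, 2, 3, 4, 2, 5, 3, 6, 1], [6, 1, 2, 4, 7, 4, 2, 1, 6, 3, 5, 2, 4, 3, 2, 1, 2, 3, 4, 2, 5, 3]]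

def nr : List (Nat × List Nat × List (List Nat)) := [(1, [2, 1, 6, 3, 5, 2, 4, 3, 2, 1, 2, 3, 4, 2, 5, 3, 6, 1, 2, 4, 7, 4], [[2, 1, 6, 3, 5, 2, 4, 3, 2, 1, 2, 3, 4, 2, 5, 3, 6, 1, 2, 4, 7, 4]]), (1, [3, 6, 1, 2, 4, 7, 4, 2, 1, 6, 3, 5, 2, 4, 3, 2, 1, 2, 3, 4, 2, 5], [[3, 6, 1, 2, 4, 7, 4, 2, 1, 6, 3, 5, 2, 4, 3, 2, 1, 2, 3, 4, 2, 5]]), (1, [4, 2, 1, 6, 3, 5, 2, 4, 3, 2, 1, 2, 3, 4, 2, 5, 3, 6, 1, 2, 4, 7], [[4, 2, 1, 6, 3, 5, 2, 4, 3, 2, 1, 2, 3, 4, 2, 5, 3, 6, 1, 2, 4, 7]]), (1, [2, 4, 7, 4, 2, 1, 6, 3, 5, 2, 4, 3, 2, 1, 2, 3, 4, 2, 5, 3, 6, 1], [[2, 1, 6, 3, 5, 2, 4, 3, 2, 1, 2, 3, 4, 2, 5, 3, 6, 1, 2, 4,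 7, 4], [4, 2, 1, 6, 3, 5, 2, 4, 3, 2, 1, 2, 3, 4, 2, 5, 3, 6, 1, 2, 4, 7], [2, 4, 7, 4, 2, 1, 6, 3, 5, 2, 4, 3, 2, 1, 2, 3, 4, 2, 5, 3, 6, 1], [2, 4, 7, 4, 2, 1, 6, 3, 5, 2, 4, 3, 2, 1, 2, 3, 4, 2, 5, 3, 6, 1], [6, 1, 2, 4, 7, 4, 2, 1, 6, 3, 5, 2, 4, 3, 2, 1, 2, 3, 4, 2, 5, 3], [6, 1, 2, 4, 7, 4, 2, 1, 6, 3, 5, 2, 4, 3, 2, 1, 2, 3, 4, 2, 5, 3]]), (1, [6, 1, 2, 4, 7, 4, 2, 1, 6, 3, 5, 2, 4, 3, 2, 1, 2, 3, 4, 2, 5, 3], [[6, 1, 2, 4, 7, 4, 2, 1, 6, 3, 5, 2, 4, 3, 2, 1, 2, 3, 4, 2, 5, 3]]), (2, [2, 1, 6, 3, 5, 2, 4, 3, 2, 1, 2, 3, 4, 2, 5, 3, 6, 1, 2, 4, 7, 4], [[2, 4, 7, 4, 2, 1, 6, 3, 5, 2, 4, 3, 2, 1, 2, 3, 4,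 2, 5, 3, 6, 1], [2, 4, 7, 4, 2, 1, 6, 3, 5, 2, 4, 3, 2, 1, 2, 3, 4, 2, 5, 3, 6, 1]]), (2, [3, 6, 1, 2, 4, 7, 4, 2, 1, 6, 3, 5, 2, 4, 3, 2, 1, 2, 3, 4, 2, 5], [[2, 1, 6, 3, 5, 2, 4, 3, 2, 1, 2, 3, 4, 2, 5, 3, 6, 1, 2, 4, 7, 4], [3, 6, 1, 2, 4, 7, 4, 2, 1, 6, 3, 5, 2, 4, 3, 2, 1, 2, 3, 4, 2, 5], [2, 4, 7, 4, 2, 1, 6, 3, 5, 2, 4, 3, 2, 1, 2, 3, 4, 2, 5, 3, 6, 1]]), (2, [4, 2, 1, 6, 3, 5, 2, 4, 3, 2, 1, 2, 3, 4, 2, 5, 3, 6, 1, 2, 4, 7], [[4, 2, 1, 6, 3, 5, 2, 4, 3, 2, 1, 2, 3, 4, 2, 5, 3, 6, 1, 2, 4, 7]]), (2, [2, 4, 7, 4, 2, 1, 6, 3, 5, 2, 4, 3, 2, 1, 2, 3, 4, 2, 5, 3, 6, 1], [[2, 1, 6, 3, 5, 2, 4, 3, 2, 1, 2, 3,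 4, 2, 5, 3, 6, 1, 2, 4, 7, 4], [2, 1, 6, 3, 5, 2, 4, 3, 2, 1, 2, 3, 4, 2, 5, 3, 6, 1, 2, 4, 7, 4]]), (2, [6, 1, 2, 4, 7, 4, 2, 1, 6, 3, 5, 2, 4, 3, 2, 1, 2, 3, 4, 2, 5, 3], [[6, 1, 2, 4, 7, 4, 2, 1, 6, 3, 5, 2, 4, 3, 2, 1, 2, 3, 4, 2, 5, 3]]), (3, [2, 1, 6, 3, 5, 2, 4, 3, 2, 1, 2, 3, 4, 2, 5, 3, 6, 1, 2, 4, 7, 4], [[2, 1, 6, 3, 5, 2, 4, 3, 2, 1, 2, 3, 4, 2, 5, 3, 6, 1, 2, 4, 7, 4]]), (3, [3, 6, 1, 2, 4, 7, 4, 2, 1, 6, 3, 5, 2, 4, 3, 2, 1, 2, 3, 4, 2, 5], [[6, 1, 2, 4, 7, 4, 2, 1, 6, 3, 5, 2, 4, 3, 2, 1, 2, 3, 4, 2, 5, 3]]), (3, [4, 2, 1, 6, 3, 5, 2, 4, 3, 2, 1, 2, 3, 4, 2, 5, 3, 6, 1, 2, 4, 7], [[4, 2, 1, 6,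 3, 5, 2, 4, 3, 2, 1, 2, 3, 4, 2, 5, 3, 6, 1, 2, 4, 7]]), (3, [2, 4, 7, 4, 2, 1, 6, 3, 5, 2, 4, 3, 2, 1, 2, 3, 4, 2, 5, 3, 6, 1], [[3, 6, 1, 2, 4, 7, 4, 2, 1, 6, 3, 5, 2, 4, 3, 2, 1, 2, 3, 4, 2, 5], [2, 4, 7, 4, 2, 1, 6, 3, 5, 2, 4, 3, 2, 1, 2, 3, 4, 2, 5, 3, 6, 1], [6, 1, 2, 4, 7, 4, 2, 1, 6, 3, 5, 2, 4, 3, 2, 1, 2, 3, 4, 2, 5, 3], [6, 1, 2, 4, 7, 4, 2, 1, 6, 3, 5, 2, 4, 3, 2, 1, 2, 3, 4, 2, 5, 3]]), (3, [6, 1, 2, 4, 7, 4, 2, 1, 6, 3, 5, 2, 4, 3, 2, 1, 2, 3, 4, 2, 5, 3], [[3, 6, 1, 2, 4, 7, 4, 2, 1, 6, 3, 5, 2, 4, 3, 2, 1, 2, 3, 4, 2, 5]]), (4, [2, 1, 6, 3, 5, 2, 4, 3, 2, 1, 2, 3, 4, 2, 5, 3, 6, 1, 2, 4, 7, 4],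 [[4, 2, 1, 6, 3, 5, 2, 4, 3, 2, 1, 2, 3, 4, 2, 5, 3, 6, 1, 2, 4, 7]]), (4, [3, 6, 1, 2, 4, 7, 4, 2, 1, 6, 3, 5, 2, 4, 3, 2, 1, 2, 3, 4, 2, 5], [[3, 6, 1, 2, 4, 7, 4, 2, 1, 6, 3, 5, 2, 4, 3, 2, 1, 2, 3, 4, 2, 5]]), (4, [4, 2, 1, 6, 3, 5, 2, 4, 3, 2, 1, 2, 3, 4, 2, 5, 3, 6, 1, 2, 4, 7], [[2, 1, 6, 3, 5, 2, 4, 3, 2, 1, 2, 3, 4, 2, 5, 3, 6, 1, 2, 4, 7, 4]]), (4, [2, 4, 7, 4, 2, 1, 6, 3, 5, 2, 4, 3, 2, 1, 2, 3, 4, 2, 5, 3, 6, 1], [[2, 4, 7, 4, 2, 1, 6, 3, 5, 2, 4, 3, 2, 1, 2, 3, 4, 2, 5, 3, 6, 1]]), (4, [6, 1, 2, 4, 7, 4, 2, 1, 6, 3, 5, 2, 4, 3, 2, 1, 2, 3, 4, 2, 5, 3], [[6, 1, 2, 4, 7, 4, 2, 1, 6, 3, 5, 2, 4, 3,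 2, 1, 2, 3, 4, 2, 5, 3]]), (5, [2, 1, 6, 3, 5, 2, 4, 3, 2, 1, 2, 3, 4, 2, 5, 3, 6, 1, 2, 4, 7, 4], [[2, 1, 6, 3, 5, 2, 4, 3, 2, 1, 2, 3, 4, 2, 5, 3, 6, 1, 2, 4, 7, 4]]), (5, [3, 6, 1, 2, 4, 7, 4, 2, 1, 6, 3, 5, 2, 4, 3, 2, 1, 2, 3, 4, 2, 5], [[2, 1, 6, 3, 5, 2, 4, 3, 2, 1, 2, 3, 4, 2, 5, 3, 6, 1, 2, 4, 7, 4], [3, 6, 1, 2, 4, 7, 4, 2, 1, 6, 3, 5, 2, 4, 3, 2, 1, 2, 3, 4, 2, 5], [3, 6, 1, 2, 4, 7, 4, 2, 1, 6, 3, 5, 2, 4, 3, 2, 1, 2, 3, 4, 2, 5], [4, 2, 1, 6, 3, 5, 2, 4, 3, 2, 1, 2, 3, 4, 2, 5, 3, 6, 1, 2, 4, 7], [6, 1, 2, 4, 7, 4, 2, 1, 6, 3, 5, 2, 4, 3, 2, 1, 2, 3, 4, 2, 5, 3], [6, 1, 2, 4, 7, 4, 2, 1, 6, 3, 5,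 2, 4, 3, 2, 1, 2, 3, 4, 2, 5, 3]]), (5, [4, 2, 1, 6, 3, 5, 2, 4, 3, 2, 1, 2, 3, 4, 2, 5, 3, 6, 1, 2, 4, 7], [[4, 2, 1, 6, 3, 5, 2, 4, 3, 2, 1, 2, 3, 4, 2, 5, 3, 6, 1, 2, 4, 7]]), (5, [2, 4, 7, 4, 2, 1, 6, 3, 5, 2, 4, 3, 2, 1, 2, 3, 4, 2, 5, 3, 6, 1], [[2, 4, 7, 4, 2, 1, 6, 3, 5, 2, 4, 3, 2, 1, 2, 3, 4, 2, 5, 3, 6, 1]]), (5, [6, 1, 2, 4, 7, 4, 2, 1, 6, 3, 5, 2, 4, 3, 2, 1, 2, 3, 4, 2, 5, 3], [[6, 1, 2, 4, 7, 4, 2, 1, 6, 3, 5, 2, 4, 3, 2, 1, 2, 3, 4, 2, 5, 3]]), (6, [2, 1, 6, 3, 5, 2, 4, 3, 2, 1, 2, 3, 4, 2, 5, 3, 6, 1, 2, 4, 7, 4], [[2, 1, 6, 3, 5, 2, 4, 3, 2, 1, 2, 3, 4, 2, 5, 3, 6, 1, 2, 4, 7, 4]]), (6, [3,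 6, 1, 2, 4, 7, 4, 2, 1, 6, 3, 5, 2, 4, 3, 2, 1, 2, 3, 4, 2, 5], [[2, 1, 6, 3, 5, 2, 4, 3, 2, 1, 2, 3, 4, 2, 5, 3, 6, 1, 2, 4, 7, 4], [3, 6, 1, 2, 4, 7, 4, 2, 1, 6, 3, 5, 2, 4, 3, 2, 1, 2, 3, 4, 2, 5], [4, 2, 1, 6, 3, 5, 2, 4, 3, 2, 1, 2, 3, 4, 2, 5, 3, 6, 1, 2, 4, 7], [2, 4, 7, 4, 2, 1, 6, 3, 5, 2, 4, 3, 2, 1, 2, 3, 4, 2, 5, 3, 6, 1], [2, 4, 7, 4, 2, 1, 6, 3, 5, 2, 4, 3, 2, 1, 2, 3, 4, 2, 5, 3, 6, 1], [6, 1, 2, 4, 7, 4, 2, 1, 6, 3, 5, 2, 4, 3, 2, 1, 2, 3, 4, 2, 5, 3]]), (6, [4, 2, 1, 6, 3, 5, 2, 4, 3, 2, 1, 2, 3, 4, 2, 5, 3, 6, 1, 2, 4, 7], [[4, 2, 1, 6, 3, 5, 2, 4, 3, 2, 1, 2, 3, 4, 2, 5, 3, 6, 1, 2, 4, 7]]),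 (6, [2, 4, 7, 4, 2, 1, 6, 3, 5, 2, 4, 3, 2, 1, 2, 3, 4, 2, 5, 3, 6, 1], [[2, 4, 7, 4, 2, 1, 6, 3, 5, 2, 4, 3, 2, 1, 2, 3, 4, 2, 5, 3, 6, 1]]), (6, [6, 1, 2, 4, 7, 4, 2, 1, 6, 3, 5, 2, 4, 3, 2, 1, 2, 3, 4, 2, 5, 3], [[2, 1, 6, 3, 5, 2, 4, 3, 2, 1, 2, 3, 4, 2, 5, 3, 6, 1, 2, 4, 7, 4], [4, 2, 1, 6, 3, 5, 2, 4, 3, 2, 1, 2, 3, 4, 2, 5, 3, 6, 1, 2, 4, 7], [2, 4, 7, 4, 2, 1, 6, 3, 5, 2, 4, 3, 2, 1, 2, 3, 4, 2, 5, 3, 6, 1], [2, 4, 7, 4, 2, 1, 6, 3, 5, 2, 4, 3, 2, 1, 2, 3, 4, 2, 5, 3, 6, 1], [6, 1, 2, 4, 7, 4, 2, 1, 6, 3, 5, 2, 4, 3, 2, 1, 2, 3, 4, 2, 5, 3], [6, 1, 2, 4, 7, 4, 2, 1, 6, 3, 5, 2, 4, 3, 2, 1, 2, 3, 4, 2,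 5, 3]]), (7, [2, 1, 6, 3, 5, 2, 4, 3, 2, 1, 2, 3, 4, 2, 5, 3, 6, 1, 2, 4, 7, 4], [[2, 1, 6, 3, 5, 2, 4, 3, 2, 1, 2, 3, 4, 2, 5, 3, 6, 1, 2, 4, 7, 4], [4, 2, 1, 6, 3, 5, 2, 4, 3, 2, 1, 2, 3, 4, 2, 5, 3, 6, 1, 2, 4, 7], [4, 2, 1, 6, 3, 5, 2, 4, 3, 2, 1, 2, 3, 4, 2, 5, 3, 6, 1, 2, 4, 7]]), (7, [3, 6, 1, 2, 4, 7, 4, 2, 1, 6, 3, 5, 2, 4, 3, 2, 1, 2, 3, 4, 2, 5], [[3, 6, 1, 2, 4, 7, 4, 2, 1, 6, 3, 5, 2, 4, 3, 2, 1, 2, 3, 4, 2, 5], [4, 2, 1, 6, 3, 5, 2, 4, 3, 2, 1, 2, 3, 4, 2, 5, 3, 6, 1, 2, 4, 7]]), (7, [4, 2, 1, 6, 3, 5, 2, 4, 3, 2, 1, 2, 3, 4, 2, 5, 3, 6, 1, 2, 4, 7], [[4, 2, 1, 6, 3, 5, 2, 4, 3, 2, 1, 2, 3, 4, 2,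 5, 3, 6, 1, 2, 4, 7], [4, 2, 1, 6, 3, 5, 2, 4, 3, 2, 1, 2, 3, 4, 2, 5, 3, 6, 1, 2, 4, 7]]), (7, [2, 4, 7, 4, 2, 1, 6, 3, 5, 2, 4, 3, 2, 1, 2, 3, 4, 2, 5, 3, 6, 1], [[4, 2, 1, 6, 3, 5, 2, 4, 3, 2, 1, 2, 3, 4, 2, 5, 3, 6, 1, 2, 4, 7], [2, 4, 7, 4, 2, 1, 6, 3, 5, 2, 4, 3, 2, 1, 2, 3, 4, 2, 5, 3, 6, 1]]), (7, [6, 1, 2, 4, 7, 4, 2, 1, 6, 3, 5, 2, 4, 3, 2, 1, 2, 3, 4, 2, 5, 3], [[4, 2, 1, 6, 3, 5, 2, 4, 3, 2, 1, 2, 3, 4, 2, 5, 3, 6, 1, 2, 4, 7], [6, 1, 2, 4, 7, 4, 2, 1, 6, 3, 5, 2, 4, 3, 2, 1, 2, 3, 4, 2, 5, 3]])]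

def us : List (List Nat) := [[2, 1, 6, 3, 5, 2, 4, 3, 2, 1, 2, 3, 4, 2, 5, 3, 6, 1, 2, 4, 7, 4, 2, 1, 6, 3, 5, 2, 4, 3, 2, 1, 2, 3, 4, 2, 5, 3, 6, 1, 2, 4, 7, 4, 4, 7, 4, 2, 1, 6, 3, 5, 2, 4, 3, 2, 1, 2, 3, 4, 2, 5, 3, 6, 1, 2, 4, 7, 4, 2, 1, 6, 3, 5, 2, 4, 3, 2, 1, 2, 3, 4, 2, 5, 3, 6, 1, 2], [2, 1, 6, 3, 5, 2, 4, 3, 2, 1, 2, 3, 4, 2, 5, 3, 6, 1, 2, 4, 7, 4, 3, 6, 1, 2, 4, 7, 4, 2, 1, 6, 3, 5, 2, 4, 3, 2, 1, 2, 3, 4, 2, 5, 4, 7, 4, 2, 1, 6, 3, 5, 2, 4, 3, 2, 1, 2, 3, 4, 2, 5, 3, 6, 1, 2, 5, 2, 4, 3, 2, 1, 2, 3, 4, 2, 5, 3, 6, 1, 2, 4, 7, 4, 2, 1, 6, 3], [2, 1, 6, 3, 5, 2, 4, 3, 2, 1, 2, 3, 4, 2, 5, 3, 6, 1,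 2, 4, 7, 4, 4, 2, 1, 6, 3, 5, 2, 4, 3, 2, 1, 2, 3, 4, 2, 5, 3, 6, 1, 2, 4, 7, 4, 7, 4, 2, 1, 6, 3, 5, 2, 4, 3, 2, 1, 2, 3, 4, 2, 5, 3, 6, 1, 2, 7, 4, 2, 1, 6, 3, 5, 2, 4, 3, 2, 1, 2, 3, 4, 2, 5, 3, 6, 1, 2, 4], [2, 1, 6, 3, 5, 2, 4, 3, 2, 1, 2, 3, 4, 2, 5, 3, 6, 1, 2, 4, 7, 4, 2, 4, 7, 4, 2, 1, 6, 3, 5, 2, 4, 3, 2, 1, 2, 3, 4, 2, 5, 3, 6, 1, 4, 7, 4, 2, 1, 6, 3, 5, 2, 4, 3, 2, 1, 2, 3, 4, 2, 5, 3, 6, 1, 2, 1, 6, 3, 5, 2, 4, 3, 2, 1, 2, 3, 4, 2, 5, 3, 6, 1, 2, 4, 7, 4, 2], [2, 1, 6, 3, 5, 2, 4, 3, 2, 1, 2, 3, 4, 2, 5, 3, 6, 1, 2, 4, 7, 4, 6, 1, 2, 4, 7, 4, 2, 1, 6, 3, 5, 2, 4, 3, 2, 1, 2, 3, 4, 2, 5, 3, 4, 7,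 4, 2, 1, 6, 3, 5, 2, 4, 3, 2, 1, 2, 3, 4, 2, 5, 3, 6, 1, 2, 3, 5, 2, 4, 3, 2, 1, 2, 3, 4, 2, 5, 3, 6, 1, 2, 4, 7, 4, 2, 1, 6], [3, 6, 1, 2, 4, 7, 4, 2, 1, 6, 3, 5, 2, 4, 3, 2, 1, 2, 3, 4, 2, 5, 2, 1, 6, 3, 5, 2, 4, 3, 2, 1, 2, 3, 4, 2, 5, 3, 6, 1, 2, 4, 7, 4, 5, 2, 4, 3, 2, 1, 2, 3, 4, 2, 5, 3, 6, 1, 2, 4, 7, 4, 2, 1, 6, 3, 4, 7, 4, 2, 1, 6, 3, 5, 2, 4, 3, 2, 1, 2, 3, 4, 2, 5, 3, 6, 1, 2], [3, 6, 1, 2, 4, 7, 4, 2, 1, 6, 3, 5, 2, 4, 3, 2, 1, 2, 3, 4, 2, 5, 3, 6, 1, 2, 4, 7, 4, 2, 1, 6, 3, 5, 2, 4, 3, 2, 1, 2, 3, 4, 2, 5, 5, 2, 4, 3, 2, 1, 2, 3, 4, 2, 5, 3, 6, 1, 2, 4, 7, 4, 2, 1, 6, 3, 5, 2, 4, 3, 2, 1, 2, 3,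 4, 2, 5, 3, 6, 1, 2, 4, 7, 4, 2, 1, 6, 3], [3, 6, 1, 2, 4, 7, 4, 2, 1, 6, 3, 5, 2, 4, 3, 2, 1, 2, 3, 4, 2, 5, 4, 2, 1, 6, 3, 5, 2, 4, 3, 2, 1, 2, 3, 4, 2, 5, 3, 6, 1, 2, 4, 7, 5, 2, 4, 3, 2, 1, 2, 3, 4, 2, 5, 3, 6, 1, 2, 4, 7, 4, 2, 1, 6, 3, 7, 4, 2, 1, 6, 3, 5, 2, 4, 3, 2, 1, 2, 3, 4, 2, 5, 3, 6, 1, 2, 4], [3, 6, 1, 2, 4, 7, 4, 2, 1, 6, 3, 5, 2, 4, 3, 2, 1, 2, 3, 4, 2, 5, 2, 4, 7, 4, 2, 1, 6, 3, 5, 2, 4, 3, 2, 1, 2, 3, 4, 2, 5, 3, 6, 1, 5, 2, 4, 3, 2, 1, 2, 3, 4, 2, 5, 3, 6, 1, 2, 4, 7, 4, 2, 1, 6, 3, 1, 6, 3, 5, 2, 4, 3, 2, 1, 2, 3, 4, 2, 5, 3, 6, 1, 2, 4, 7, 4, 2], [3, 6, 1, 2, 4, 7, 4, 2, 1, 6, 3, 5, 2, 4,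 3, 2, 1, 2, 3, 4, 2, 5, 6, 1, 2, 4, 7, 4, 2, 1, 6, 3, 5, 2, 4, 3, 2, 1, 2, 3, 4, 2, 5, 3, 5, 2, 4, 3, 2, 1, 2, 3, 4, 2, 5, 3, 6, 1, 2, 4, 7, 4, 2, 1, 6, 3, 3, 5, 2, 4, 3, 2, 1, 2, 3, 4, 2, 5, 3, 6, 1, 2, 4, 7, 4, 2, 1, 6], [4, 2, 1, 6, 3, 5, 2, 4, 3, 2, 1, 2, 3, 4, 2, 5, 3, 6, 1, 2, 4, 7, 2, 1, 6, 3, 5, 2, 4, 3, 2, 1, 2, 3, 4, 2, 5, 3, 6, 1, 2, 4, 7, 4, 7, 4, 2, 1, 6, 3, 5, 2, 4, 3, 2, 1, 2, 3, 4, 2, 5, 3, 6, 1, 2, 4, 4, 7, 4, 2, 1, 6, 3, 5, 2, 4, 3, 2, 1, 2, 3, 4, 2, 5, 3, 6, 1, 2], [4, 2, 1, 6, 3, 5, 2, 4, 3, 2, 1, 2, 3, 4, 2, 5, 3, 6, 1, 2, 4, 7, 3, 6, 1, 2, 4, 7, 4, 2, 1, 6, 3, 5, 2, 4, 3, 2, 1, 2, 3, 4,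 2, 5, 7, 4, 2, 1, 6, 3, 5, 2, 4, 3, 2, 1, 2, 3, 4, 2, 5, 3, 6, 1, 2, 4, 5, 2, 4, 3, 2, 1, 2, 3, 4, 2, 5, 3, 6, 1, 2, 4, 7, 4, 2, 1, 6, 3], [4, 2, 1, 6, 3, 5, 2, 4, 3, 2, 1, 2, 3, 4, 2, 5, 3, 6, 1, 2, 4, 7, 4, 2, 1, 6, 3, 5, 2, 4, 3, 2, 1, 2, 3, 4, 2, 5, 3, 6, 1, 2, 4, 7, 7, 4, 2, 1, 6, 3, 5, 2, 4, 3, 2, 1, 2, 3, 4, 2, 5, 3, 6, 1, 2, 4, 7, 4, 2, 1, 6, 3, 5, 2, 4, 3, 2, 1, 2, 3, 4, 2, 5, 3, 6, 1, 2, 4], [4, 2, 1, 6, 3, 5, 2, 4, 3, 2, 1, 2, 3, 4, 2, 5, 3, 6, 1, 2, 4, 7, 2, 4, 7, 4, 2, 1, 6, 3, 5, 2, 4, 3, 2, 1, 2, 3, 4, 2, 5, 3, 6, 1, 7, 4, 2, 1, 6, 3, 5, 2, 4, 3, 2, 1, 2, 3, 4, 2, 5, 3, 6, 1, 2, 4, 1, 6, 3, 5,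 2, 4, 3, 2, 1, 2, 3, 4, 2, 5, 3, 6, 1, 2, 4, 7, 4, 2], [4, 2, 1, 6, 3, 5, 2, 4, 3, 2, 1, 2, 3, 4, 2, 5, 3, 6, 1, 2, 4, 7, 6, 1, 2, 4, 7, 4, 2, 1, 6, 3, 5, 2, 4, 3, 2, 1, 2, 3, 4, 2, 5, 3, 7, 4, 2, 1, 6, 3, 5, 2, 4, 3, 2, 1, 2, 3, 4, 2, 5, 3, 6, 1, 2, 4, 3, 5, 2, 4, 3, 2, 1, 2, 3, 4, 2, 5, 3, 6, 1, 2, 4, 7, 4, 2, 1, 6], [2, 4, 7, 4, 2, 1, 6, 3, 5, 2, 4, 3, 2, 1, 2, 3, 4, 2, 5, 3, 6, 1, 2, 1, 6, 3, 5, 2, 4, 3, 2, 1, 2, 3, 4, 2, 5, 3, 6, 1, 2, 4, 7, 4, 1, 6, 3, 5, 2, 4, 3, 2, 1, 2, 3, 4, 2, 5, 3, 6, 1, 2, 4, 7, 4, 2, 4, 7, 4, 2, 1, 6, 3, 5, 2, 4, 3, 2, 1, 2, 3, 4, 2, 5, 3, 6, 1, 2], [2, 4, 7, 4, 2, 1, 6, 3, 5, 2,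 4, 3, 2, 1, 2, 3, 4, 2, 5, 3, 6, 1, 3, 6, 1, 2, 4, 7, 4, 2, 1, 6, 3, 5, 2, 4, 3, 2, 1, 2, 3, 4, 2, 5, 1, 6, 3, 5, 2, 4, 3, 2, 1, 2, 3, 4, 2, 5, 3, 6, 1, 2, 4, 7, 4, 2, 5, 2, 4, 3, 2, 1, 2, 3, 4, 2, 5, 3, 6, 1, 2, 4, 7, 4, 2, 1, 6, 3], [2, 4, 7, 4, 2, 1, 6, 3, 5, 2, 4, 3, 2, 1, 2, 3, 4, 2, 5, 3, 6, 1, 4, 2, 1, 6, 3, 5, 2, 4, 3, 2, 1, 2, 3, 4, 2, 5, 3, 6, 1, 2, 4, 7, 1, 6, 3, 5, 2, 4, 3, 2, 1, 2, 3, 4, 2, 5, 3, 6, 1, 2, 4, 7, 4, 2, 7, 4, 2, 1, 6, 3, 5, 2, 4, 3, 2, 1, 2, 3, 4, 2, 5, 3, 6, 1, 2, 4], [2, 4, 7, 4, 2, 1, 6, 3, 5, 2, 4, 3, 2, 1, 2, 3, 4, 2, 5, 3, 6, 1, 2, 4, 7, 4, 2, 1, 6, 3, 5, 2, 4, 3, 2, 1, 2, 3,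 4, 2, 5, 3, 6, 1, 1, 6, 3, 5, 2, 4, 3, 2, 1, 2, 3, 4, 2, 5, 3, 6, 1, 2, 4, 7, 4, 2, 1, 6, 3, 5, 2, 4, 3, 2, 1, 2, 3, 4, 2, 5, 3, 6, 1, 2, 4, 7, 4, 2], [2, 4, 7, 4, 2, 1, 6, 3, 5, 2, 4, 3, 2, 1, 2, 3, 4, 2, 5, 3, 6, 1, 6, 1, 2, 4, 7, 4, 2, 1, 6, 3, 5, 2, 4, 3, 2, 1, 2, 3, 4, 2, 5, 3, 1, 6, 3, 5, 2, 4, 3, 2, 1, 2, 3, 4, 2, 5, 3, 6, 1, 2, 4, 7, 4, 2, 3, 5, 2, 4, 3, 2, 1, 2, 3, 4, 2, 5, 3, 6, 1, 2, 4, 7, 4, 2, 1, 6], [6, 1, 2, 4, 7, 4, 2, 1, 6, 3, 5, 2, 4, 3, 2, 1, 2, 3, 4, 2, 5, 3, 2, 1, 6, 3, 5, 2, 4, 3, 2, 1, 2, 3, 4, 2, 5, 3, 6, 1, 2, 4, 7, 4, 3, 5, 2, 4, 3, 2, 1, 2, 3, 4, 2, 5, 3, 6, 1, 2, 4, 7, 4, 2, 1, 6,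 4, 7, 4, 2, 1, 6, 3, 5, 2, 4, 3, 2, 1, 2, 3, 4, 2, 5, 3, 6, 1, 2], [6, 1, 2, 4, 7, 4, 2, 1, 6, 3, 5, 2, 4, 3, 2, 1, 2, 3, 4, 2, 5, 3, 3, 6, 1, 2, 4, 7, 4, 2, 1, 6, 3, 5, 2, 4, 3, 2, 1, 2, 3, 4, 2, 5, 3, 5, 2, 4, 3, 2, 1, 2, 3, 4, 2, 5, 3, 6, 1, 2, 4, 7, 4, 2, 1, 6, 5, 2, 4, 3, 2, 1, 2, 3, 4, 2, 5, 3, 6, 1, 2, 4, 7, 4, 2, 1, 6, 3], [6, 1, 2, 4, 7, 4, 2, 1, 6, 3, 5, 2, 4, 3, 2, 1, 2, 3, 4, 2, 5, 3, 4, 2, 1, 6, 3, 5, 2, 4, 3, 2, 1, 2, 3, 4, 2, 5, 3, 6, 1, 2, 4, 7, 3, 5, 2, 4, 3, 2, 1, 2, 3, 4, 2, 5, 3, 6, 1, 2, 4, 7, 4, 2, 1, 6, 7, 4, 2, 1, 6, 3, 5, 2, 4, 3, 2, 1, 2, 3, 4, 2, 5, 3, 6, 1, 2, 4], [6, 1, 2, 4, 7, 4,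 2, 1, 6, 3, 5, 2, 4, 3, 2, 1, 2, 3, 4, 2, 5, 3, 2, 4, 7, 4, 2, 1, 6, 3, 5, 2, 4, 3, 2, 1, 2, 3, 4, 2, 5, 3, 6, 1, 3, 5, 2, 4, 3, 2, 1, 2, 3, 4, 2, 5, 3, 6, 1, 2, 4, 7, 4, 2, 1, 6, 1, 6, 3, 5, 2, 4, 3, 2, 1, 2, 3, 4, 2, 5, 3, 6, 1, 2, 4, 7, 4, 2], [6, 1, 2, 4, 7, 4, 2, 1, 6, 3, 5, 2, 4, 3, 2, 1, 2, 3, 4, 2, 5, 3, 6, 1, 2, 4, 7, 4, 2, 1, 6, 3, 5, 2, 4, 3, 2, 1, 2, 3, 4, 2, 5, 3, 3, 5, 2, 4, 3, 2, 1, 2, 3, 4, 2, 5, 3, 6, 1, 2, 4, 7, 4, 2, 1, 6, 3, 5, 2, 4, 3, 2, 1, 2, 3, 4, 2, 5, 3, 6, 1, 2, 4, 7, 4, 2, 1, 6], [1, 2, 1, 6, 3, 5, 2, 4, 3, 2, 1, 2, 3, 4, 2, 5, 3, 6, 1, 2, 4, 7, 4, 1, 4, 7, 4, 2, 1, 6, 3, 5, 2, 4,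 3, 2, 1, 2, 3, 4, 2, 5, 3, 6, 1, 2], [1, 3, 6, 1, 2, 4, 7, 4, 2, 1, 6, 3, 5, 2, 4, 3, 2, 1, 2, 3, 4, 2, 5, 1, 5, 2, 4, 3, 2, 1, 2, 3, 4, 2, 5, 3, 6, 1, 2, 4, 7, 4, 2, 1, 6, 3], [1, 4, 2, 1, 6, 3, 5, 2, 4, 3, 2, 1, 2, 3, 4, 2, 5, 3, 6, 1, 2, 4, 7, 1, 7, 4, 2, 1, 6, 3, 5, 2, 4, 3, 2, 1, 2, 3, 4, 2, 5, 3, 6, 1, 2, 4], [1, 2, 4, 7, 4, 2, 1, 6, 3, 5, 2, 4, 3, 2, 1, 2, 3, 4, 2, 5, 3, 6, 1, 1, 3, 5, 2, 4, 3, 2, 1, 2, 3, 4, 2, 5, 3, 6, 1, 2, 4, 7, 4, 2, 1, 6, 3, 5, 2, 4, 3, 2, 1, 2, 3, 4, 2, 5, 3, 6, 1, 2, 4, 7, 4, 2, 1, 6, 1, 6, 3, 5, 2, 4, 3, 2, 1, 2, 3, 4, 2, 5, 3, 6, 1, 2, 4, 7, 4, 2, 1, 6, 3, 5, 2, 4, 3, 2, 1, 2,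 3, 4, 2, 5, 3, 6, 1, 2, 4, 7, 4, 2, 7, 4, 2, 1, 6, 3, 5, 2, 4, 3, 2, 1, 2, 3, 4, 2, 5, 3, 6, 1, 2, 4, 4, 7, 4, 2, 1, 6, 3, 5, 2, 4, 3, 2, 1, 2, 3, 4, 2, 5, 3, 6, 1, 2], [1, 6, 1, 2, 4, 7, 4, 2, 1, 6, 3, 5, 2, 4, 3, 2, 1, 2, 3, 4, 2, 5, 3, 1, 3, 5, 2, 4, 3, 2, 1, 2, 3, 4, 2, 5, 3, 6, 1, 2, 4, 7, 4, 2, 1, 6], [2, 2, 1, 6, 3, 5, 2, 4, 3, 2, 1, 2, 3, 4, 2, 5, 3, 6, 1, 2, 4, 7, 4, 2, 1, 6, 3, 5, 2, 4, 3, 2, 1, 2, 3, 4, 2, 5, 3, 6, 1, 2, 4, 7, 4, 2, 1, 6, 3, 5, 2, 4, 3, 2, 1, 2, 3, 4, 2, 5, 3, 6, 1, 2, 4, 7, 4, 2], [2, 3, 6, 1, 2, 4, 7, 4, 2, 1, 6, 3, 5, 2, 4, 3, 2, 1, 2, 3, 4, 2, 5, 2, 1, 6, 3, 5, 2, 4, 3, 2, 1, 2,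 3, 4, 2, 5, 3, 6, 1, 2, 4, 7, 4, 2, 5, 2, 4, 3, 2, 1, 2, 3, 4, 2, 5, 3, 6, 1, 2, 4, 7, 4, 2, 1, 6, 3, 4, 7, 4, 2, 1, 6, 3, 5, 2, 4, 3, 2, 1, 2, 3, 4, 2, 5, 3, 6, 1, 2], [2, 4, 2, 1, 6, 3, 5, 2, 4, 3, 2, 1, 2, 3, 4, 2, 5, 3, 6, 1, 2, 4, 7, 2, 7, 4, 2, 1, 6, 3, 5, 2, 4, 3, 2, 1, 2, 3, 4, 2, 5, 3, 6, 1, 2, 4], [2, 2, 4, 7, 4, 2, 1, 6, 3, 5, 2, 4, 3, 2, 1, 2, 3, 4, 2, 5, 3, 6, 1, 2, 4, 7, 4, 2, 1, 6, 3, 5, 2, 4, 3, 2, 1, 2, 3, 4, 2, 5, 3, 6, 1, 2, 4, 7, 4, 2, 1, 6, 3, 5, 2, 4, 3, 2, 1, 2, 3, 4, 2, 5, 3, 6, 1, 2], [2, 6, 1, 2, 4, 7, 4, 2, 1, 6, 3, 5, 2, 4, 3, 2, 1, 2, 3, 4, 2, 5, 3, 2, 3, 5, 2, 4, 3, 2, 1, 2, 3, 4,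 2, 5, 3, 6, 1, 2, 4, 7, 4, 2, 1, 6], [3, 2, 1, 6, 3, 5, 2, 4, 3, 2, 1, 2, 3, 4, 2, 5, 3, 6, 1, 2, 4, 7, 4, 3, 4, 7, 4, 2, 1, 6, 3, 5, 2, 4, 3, 2, 1, 2, 3, 4, 2, 5, 3, 6, 1, 2], [3, 3, 6, 1, 2, 4, 7, 4, 2, 1, 6, 3, 5, 2, 4, 3, 2, 1, 2, 3, 4, 2, 5, 3, 3, 5, 2, 4, 3, 2, 1, 2, 3, 4, 2, 5, 3, 6, 1, 2, 4, 7, 4, 2, 1, 6], [3, 4, 2, 1, 6, 3, 5, 2, 4, 3, 2, 1, 2, 3, 4, 2, 5, 3, 6, 1, 2, 4, 7, 3, 7, 4, 2, 1, 6, 3, 5, 2, 4, 3, 2, 1, 2, 3, 4, 2, 5, 3, 6, 1, 2, 4], [3, 2, 4, 7, 4, 2, 1, 6, 3, 5, 2, 4, 3, 2, 1, 2, 3, 4, 2, 5, 3, 6, 1, 3, 3, 5, 2, 4, 3, 2, 1, 2, 3, 4, 2, 5, 3, 6, 1, 2, 4, 7, 4, 2, 1, 6, 3, 5, 2, 4, 3, 2, 1,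 2, 3, 4, 2, 5, 3, 6, 1, 2, 4, 7, 4, 2, 1, 6, 1, 6, 3, 5, 2, 4, 3, 2, 1, 2, 3, 4, 2, 5, 3, 6, 1, 2, 4, 7, 4, 2, 5, 2, 4, 3, 2, 1, 2, 3, 4, 2, 5, 3, 6, 1, 2, 4, 7, 4, 2, 1, 6, 3], [3, 6, 1, 2, 4, 7, 4, 2, 1, 6, 3, 5, 2, 4, 3, 2, 1, 2, 3, 4, 2, 5, 3, 3, 5, 2, 4, 3, 2, 1, 2, 3, 4, 2, 5, 3, 6, 1, 2, 4, 7, 4, 2, 1, 6, 3], [4, 2, 1, 6, 3, 5, 2, 4, 3, 2, 1, 2, 3, 4, 2, 5, 3, 6, 1, 2, 4, 7, 4, 4, 7, 4, 2, 1, 6, 3, 5, 2, 4, 3, 2, 1, 2, 3, 4, 2, 5, 3, 6, 1, 2, 4], [4, 3, 6, 1, 2, 4, 7, 4, 2, 1, 6, 3, 5, 2, 4, 3, 2, 1, 2, 3, 4, 2, 5, 4, 5, 2, 4, 3, 2, 1, 2, 3, 4, 2, 5, 3, 6, 1, 2, 4, 7, 4, 2, 1, 6, 3], [4, 4, 2, 1, 6, 3,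 5, 2, 4, 3, 2, 1, 2, 3, 4, 2, 5, 3, 6, 1, 2, 4, 7, 4, 4, 7, 4, 2, 1, 6, 3, 5, 2, 4, 3, 2, 1, 2, 3, 4, 2, 5, 3, 6, 1, 2], [4, 2, 4, 7, 4, 2, 1, 6, 3, 5, 2, 4, 3, 2, 1, 2, 3, 4, 2, 5, 3, 6, 1, 4, 1, 6, 3, 5, 2, 4, 3, 2, 1, 2, 3, 4, 2, 5, 3, 6, 1, 2, 4, 7, 4, 2], [4, 6, 1, 2, 4, 7, 4, 2, 1, 6, 3, 5, 2, 4, 3, 2, 1, 2, 3, 4, 2, 5, 3, 4, 3, 5, 2, 4, 3, 2, 1, 2, 3, 4, 2, 5, 3, 6, 1, 2, 4, 7, 4, 2, 1, 6], [5, 2, 1, 6, 3, 5, 2, 4, 3, 2, 1, 2, 3, 4, 2, 5, 3, 6, 1, 2, 4, 7, 4, 5, 4, 7, 4, 2, 1, 6, 3, 5, 2, 4, 3, 2, 1, 2, 3, 4, 2, 5, 3, 6, 1, 2], [5, 3, 6, 1, 2, 4, 7, 4, 2, 1, 6, 3, 5, 2, 4, 3, 2, 1, 2, 3, 4, 2, 5, 5, 3,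 5, 2, 4, 3, 2, 1, 2, 3, 4, 2, 5, 3, 6, 1, 2, 4, 7, 4, 2, 1, 6, 3, 5, 2, 4, 3, 2, 1, 2, 3, 4, 2, 5, 3, 6, 1, 2, 4, 7, 4, 2, 1, 6, 7, 4, 2, 1, 6, 3, 5, 2, 4, 3, 2, 1, 2, 3, 4, 2, 5, 3, 6, 1, 2, 4, 5, 2, 4, 3, 2, 1, 2, 3, 4, 2, 5, 3, 6, 1, 2, 4, 7, 4, 2, 1, 6, 3, 5, 2, 4, 3, 2, 1, 2, 3, 4, 2, 5, 3, 6, 1, 2, 4, 7, 4, 2, 1, 6, 3, 4, 7, 4, 2, 1, 6, 3, 5, 2, 4, 3, 2, 1, 2, 3, 4, 2, 5, 3, 6, 1, 2], [5, 4, 2, 1, 6, 3, 5, 2, 4, 3, 2, 1, 2, 3, 4, 2, 5, 3, 6, 1, 2, 4, 7, 5, 7, 4, 2, 1, 6, 3, 5, 2, 4, 3, 2, 1, 2, 3, 4, 2, 5, 3, 6, 1, 2, 4], [5, 2, 4, 7, 4, 2, 1, 6, 3, 5, 2, 4, 3, 2, 1, 2, 3, 4, 2, 5, 3, 6, 1, 5, 1, 6, 3,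 5, 2, 4, 3, 2, 1, 2, 3, 4, 2, 5, 3, 6, 1, 2, 4, 7, 4, 2], [5, 6, 1, 2, 4, 7, 4, 2, 1, 6, 3, 5, 2, 4, 3, 2, 1, 2, 3, 4, 2, 5, 3, 5, 3, 5, 2, 4, 3, 2, 1, 2, 3, 4, 2, 5, 3, 6, 1, 2, 4, 7, 4, 2, 1, 6], [6, 2, 1, 6, 3, 5, 2, 4, 3, 2, 1, 2, 3, 4, 2, 5, 3, 6, 1, 2, 4, 7, 4, 6, 4, 7, 4, 2, 1, 6, 3, 5, 2, 4, 3, 2, 1, 2, 3, 4, 2, 5, 3, 6, 1, 2], [6, 3, 6, 1, 2, 4, 7, 4, 2, 1, 6, 3, 5, 2, 4, 3, 2, 1, 2, 3, 4, 2, 5, 6, 3, 5, 2, 4, 3, 2, 1, 2, 3, 4, 2, 5, 3, 6, 1, 2, 4, 7, 4, 2, 1, 6, 1, 6, 3, 5, 2, 4, 3, 2, 1, 2, 3, 4, 2, 5, 3, 6, 1, 2, 4, 7, 4, 2, 1, 6, 3, 5, 2, 4, 3, 2, 1, 2, 3, 4, 2, 5, 3, 6, 1, 2, 4, 7, 4, 2, 7, 4, 2,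 1, 6, 3, 5, 2, 4, 3, 2, 1, 2, 3, 4, 2, 5, 3, 6, 1, 2, 4, 5, 2, 4, 3, 2, 1, 2, 3, 4, 2, 5, 3, 6, 1, 2, 4, 7, 4, 2, 1, 6, 3, 4, 7, 4, 2, 1, 6, 3, 5, 2, 4, 3, 2, 1, 2, 3, 4, 2, 5, 3, 6, 1, 2], [6, 4, 2, 1, 6, 3, 5, 2, 4, 3, 2, 1, 2, 3, 4, 2, 5, 3, 6, 1, 2, 4, 7, 6, 7, 4, 2, 1, 6, 3, 5, 2, 4, 3, 2, 1, 2, 3, 4, 2, 5, 3, 6, 1, 2, 4], [6, 2, 4, 7, 4, 2, 1, 6, 3, 5, 2, 4, 3, 2, 1, 2, 3, 4, 2, 5, 3, 6, 1, 6, 1, 6, 3, 5, 2, 4, 3, 2, 1, 2, 3, 4, 2, 5, 3, 6, 1, 2, 4, 7, 4, 2], [6, 6, 1, 2, 4, 7, 4, 2, 1, 6, 3, 5, 2, 4, 3, 2, 1, 2, 3, 4, 2, 5, 3, 6, 3, 5, 2, 4, 3, 2, 1, 2, 3, 4, 2, 5, 3, 6, 1, 2, 4, 7, 4, 2, 1, 6, 3, 5, 2,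 4, 3, 2, 1, 2, 3, 4, 2, 5, 3, 6, 1, 2, 4, 7, 4, 2, 1, 6, 1, 6, 3, 5, 2, 4, 3, 2, 1, 2, 3, 4, 2, 5, 3, 6, 1, 2, 4, 7, 4, 2, 1, 6, 3, 5, 2, 4, 3, 2, 1, 2, 3, 4, 2, 5, 3, 6, 1, 2, 4, 7, 4, 2, 7, 4, 2, 1, 6, 3, 5, 2, 4, 3, 2, 1, 2, 3, 4, 2, 5, 3, 6, 1, 2, 4, 4, 7, 4, 2, 1, 6, 3, 5, 2, 4, 3, 2, 1, 2, 3, 4, 2, 5, 3, 6, 1, 2], [7, 2, 1, 6, 3, 5, 2, 4, 3, 2, 1, 2, 3, 4, 2, 5, 3, 6, 1, 2, 4, 7, 4, 7, 7, 4, 2, 1, 6, 3, 5, 2, 4, 3, 2, 1, 2, 3, 4, 2, 5, 3, 6, 1, 2, 4, 7, 4, 2, 1, 6, 3, 5, 2, 4, 3, 2, 1, 2, 3, 4, 2, 5, 3, 6, 1, 2, 4, 4, 7, 4, 2, 1, 6, 3, 5, 2, 4, 3, 2, 1, 2, 3, 4, 2, 5, 3, 6, 1, 2], [7, 3, 6, 1, 2, 4, 7,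 4, 2, 1, 6, 3, 5, 2, 4, 3, 2, 1, 2, 3, 4, 2, 5, 7, 7, 4, 2, 1, 6, 3, 5, 2, 4, 3, 2, 1, 2, 3, 4, 2, 5, 3, 6, 1, 2, 4, 5, 2, 4, 3, 2, 1, 2, 3, 4, 2, 5, 3, 6, 1, 2, 4, 7, 4, 2, 1, 6, 3], [7, 4, 2, 1, 6, 3, 5, 2, 4, 3, 2, 1, 2, 3, 4, 2, 5, 3, 6, 1, 2, 4, 7, 7, 7, 4, 2, 1, 6, 3, 5, 2, 4, 3, 2, 1, 2, 3, 4, 2, 5, 3, 6, 1, 2, 4, 7, 4, 2, 1, 6, 3, 5, 2, 4, 3, 2, 1, 2, 3, 4, 2, 5, 3, 6, 1, 2, 4], [7, 2, 4, 7, 4, 2, 1, 6, 3, 5, 2, 4, 3, 2, 1, 2, 3, 4, 2, 5, 3, 6, 1, 7, 1, 6, 3, 5, 2, 4, 3, 2, 1, 2, 3, 4, 2, 5, 3, 6, 1, 2, 4, 7, 4, 2, 7, 4, 2, 1, 6, 3, 5, 2, 4, 3, 2, 1, 2, 3, 4, 2, 5, 3, 6, 1, 2, 4], [7, 6, 1, 2, 4, 7, 4,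 2, 1, 6, 3, 5, 2, 4, 3, 2, 1, 2, 3, 4, 2, 5, 3, 7, 3, 5, 2, 4, 3, 2, 1, 2, 3, 4, 2, 5, 3, 6, 1, 2, 4, 7, 4, 2, 1, 6, 7, 4, 2, 1, 6, 3, 5, 2, 4, 3, 2, 1, 2, 3, 4, 2, 5, 3, 6, 1, 2, 4]]

theorem zc0 : allR (trivB P us) 0 364 = true := by decide +kernel

end Cfsg.Agent.CosetEnum.Fi22T8
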