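import Cfsg.Agent.CosetEnum.Basic

/-! Certificate of a coset enumeration (generated data, owner: helper28). -/

set_option autoImplicit false
set_option maxRecDepth 1000000

namespace Cfsg.Agent.CosetEnum.Fi22D5

noncomputable def t0 : T := .l 0 0x800001e0000900001d0000900001c0000900001f00009fffffffffff0000000000900001a000080000190000800001b0000800000000007fffffffffff0000160000700001800007000017000070000000000600000000008fffffffffff0000150000600000000004000014000050000000000700001300006fffffffffff0000110000500000000003000014000060000120000500001000005fffffffffff00000e00004000000000060000000000300000f0000400000d00004fffffffffff00000b0000300000000005000000000040000000000200000c00003fffffffffff00000a0000200000900002000008000020000000000300000000001fffffffffff0000000000000000700001000006000010000050000100000000002fffffffffff0000000000100000400000000003000000000020000000000100000fffffffffff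

end Cfsg.Agent.CosetEnum.Fi22D5
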