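import Cfsg.Agent.CosetEnum.Basic

/-! Certificate of a coset enumeration (generated data, owner: helper28). -/

set_option autoImplicit false
set_option maxRecDepth 1000000

namespace Cfsg.Agent.CosetEnum.Fi22D6

noncomputable def t0 : T := .l 0 0xa0000310000b0000300000b00002f0000b00002e0000b00002d0000bfffffffffff0000000000b0000000000900002b0000a00002a0000a0000290000a00002c0000afffffffffff000027000090000000000a00002600009000025000090000280000900000000008fffffffffff000022000080000210000800002400008000023000080000000000700000000009fffffffffff0000200000700001f000070000000000500001e000060000000000800001d00007fffffffffff00001b0000600001a000060000000000400001e0000700001c0000600001900006fffffffffff000017000050000160000500000000007000000000040000180000500001500005fffffffffff000013000040000120000400000000006000000000050000000000300001400004fffffffffff000010000030000110000300000f0000300000e000030000000000400000000002fffffffffff00000d000020000000000100000c0000200000b0000200000a0000200000000003fffffffffff000000000000000000000200000900001000008000010000070000100000600001fffffffffff000000000010000050000000000400000000003000000000020000000000100000fffffffffff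

end Cfsg.Agent.CosetEnum.Fi22D6
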