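import Cfsg.Agent.CosetEnum.Basic

/-! Permutation table (generated data, owner: helper28). -/

set_option autoImplicit false
set_option maxRecDepth 1000000

namespace Cfsg.Agent.CosetEnum.Fi22TD

noncomputable def tab : T := .l 0 0xa0000b0000b0000b0000b0000b000000000b000090000a0000a0000a0000a00000000090000a0000900009000090000800000000080000800008000080000700009000000000700007000050000600008000070000000006000060000400007000060000600000000050000500007000040000500005000000000400004000060000500003000040000000003000030000300003000040000200000000020000100002000020000200003000000000000002000010000100001000010000000001000000000000000000000000000000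

def iv : List (Nat × Nat) := []

def RL : List (List Nat × Nat) := [([1, 2], 3), ([1, 3], 2), ([1, 4], 2), ([1, 5], 3), ([1, 6], 2), ([2, 3], 3), ([2, 4], 3), ([2, 5], 2), ([2, 6], 2), ([3, 4], 2), ([3, 5], 2), ([3, 6], 2), ([4, 5], 2), ([4, 6], 2), ([5, 6], 3)]

def lets : List Nat := [1, 2, 3, 4, 5, 6]

noncomputable def P : Par := ⟨tab, 140, 1393796574908163946345982392040522594123775, 12, fun _ _ => false, .e⟩

end Cfsg.Agent.CosetEnum.Fi22TD
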